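import Groth.Agent.SmoothSliceLib.Point

/-!
Smooth schemes have points with finite separable residue fields in the fibres.
-/

set_option autoImplicit false
universe u
open CategoryTheory AlgebraicGeometry

namespace Groth.Agent.SmoothSliceLib

/-- A nonempty open of a smooth scheme over a field has a separable point. -/
theorem exists_spec_point_field (k : Type u) [Field k] {X : Scheme.{u}} (f : X ⟶ Spec (.of k)) [Smooth f]
    (W : X.Opens) (x : X) (hx : x ∈ W) :
    ∃ (L : Type u) (_ : Field L) (_ : Algebra k L) (σ : Spec (.of L) ⟶ X),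
      Module.Finite k L ∧ Algebra.IsSeparable k L ∧ σ ≫ f = Spec.map (CommRingCat.ofHom (algebraMap k L)) ∧
      ∀ o, σ o ∈ W := by
  obtain ⟨R, j, hj, hxj, hsub⟩ := Scheme.exists_affine_mem_range_and_range_subset hx
  obtain ⟨q, -⟩ := hxj
  haveI : Smooth (Spec.map (Spec.preimage (j ≫ f))) := by rw [Spec.map_preimage]; infer_instance
  letI : Algebra k R := (Spec.preimage (j ≫ f)).hom.toAlgebra
  haveI : Algebra.Smooth k R := HasRingHomProperty.Spec_iff.1 (inferInstance : Smooth (Spec.map (Spec.preimage (j ≫ f))))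
  obtain ⟨g, hg, hstd⟩ := Algebra.IsSmoothAt.exists_notMem_isStandardSmooth k q.asIdeal
  let T := Localization.Away g
  obtain ⟨qT, -⟩ := (PrimeSpectrum.localization_away_comap_range T g).ge
    (show q ∈ (PrimeSpectrum.basicOpen g : Set (PrimeSpectrum R)) from hg)
  obtain ⟨L, _, _, ψ, hfin, hsep, -⟩ := exists_sep_point k qT.asIdeal 1 (fun h => qT.isPrime.ne_top ((Ideal.eq_top_iff_one _).2 h))
  let ψ' : R →ₐ[k] L := ψ.comp (IsScalarTower.toAlgHom k R T)
  refine ⟨L, inferInstance, inferInstance, Spec.map (CommRingCat.ofHom ψ'.toRingHom) ≫ j, hfin, hsep, ?_,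
    fun o => hsub ⟨_, rfl⟩⟩
  rw [Category.assoc, ← Spec.map_preimage (j ≫ f), ← Spec.map_comp]
  congr 1
  exact CommRingCat.hom_ext ψ'.comp_algebraMap

/-- A point of a fibre of a smooth morphism, with values in a finite separable extension, inside a given open. -/
theorem exists_spec_point {X Y : Scheme.{u}} (f : X ⟶ Y) [Smooth f] (W : X.Opens) (x : X) (hx : x ∈ W) :
    ∃ (L : Type u) (_ : Field L) (_ : Algebra (Y.residueField (f x)) L) (σ : Spec (.of L) ⟶ X),
      Module.Finite (Y.residueField (f x)) L ∧ Algebra.IsSeparable (Y.residueField (f x)) L ∧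
      σ ≫ f = Spec.map (CommRingCat.ofHom (algebraMap (Y.residueField (f x)) L)) ≫ Y.fromSpecResidueField (f x) ∧
      ∀ o, σ o ∈ W := by
  haveI : Smooth (f.fiberToSpecResidueField (f x)) := MorphismProperty.pullback_snd _ _ inferInstance
  obtain ⟨L, _, _, σ, hfin, hsep, hσ, hσW⟩ := exists_spec_point_field (Y.residueField (f x))
    (f.fiberToSpecResidueField (f x)) ((f.fiberι (f x)) ⁻¹ᵁ W) (f.asFiber x)
    (by show f.fiberι (f x) (f.asFiber x) ∈ W; rw [f.fiberι_asFiber]; exact hx)
  refine ⟨L, inferInstance, inferInstance, σ ≫ f.fiberι (f x), hfin, hsep, ?_, fun o => hσW o⟩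
  rw [Category.assoc, show f.fiberι (f x) ≫ f = f.fiberToSpecResidueField (f x) ≫ Y.fromSpecResidueField (f x) from
    Limits.pullback.condition, ← Category.assoc, hσ]

/-- A smooth morphism has a point with separable residue field over every point of its image. -/
theorem exists_separable_point {X Y : Scheme.{u}} (f : X ⟶ Y) [Smooth f] (s : Y) (hs : s ∈ Set.range f) :
    ∃ x : X, f x = s ∧
      @Algebra.IsSeparable (Y.residueField (f x)) (X.residueField x) _ _ (f.residueFieldMap x).hom.toAlgebra := by
  obtain ⟨x₀, rfl⟩ := hs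
  obtain ⟨L, _, _, σ, -, hsep, hσ, -⟩ := exists_spec_point f ⊤ x₀ trivial
  refine ⟨σ (IsLocalRing.closedPoint L), ?_, ?_⟩
  · rw [← Scheme.Hom.comp_apply, hσ, Scheme.Hom.comp_apply, Scheme.fromSpecResidueField_apply]
  · set x := σ (IsLocalRing.closedPoint L)
    let ι := X.descResidueField (Scheme.stalkClosedPointTo σ)
    have hfx : f x = f x₀ := by rw [← Scheme.Hom.comp_apply, hσ, Scheme.Hom.comp_apply, Scheme.fromSpecResidueField_apply]
    have h1 : Spec.map (f.residueFieldMap x ≫ ι) ≫ Y.fromSpecResidueField (f x) =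
        Spec.map ((Y.residueFieldCongr hfx).hom ≫ CommRingCat.ofHom (algebraMap (Y.residueField (f x₀)) L)) ≫
          Y.fromSpecResidueField (f x) := by
      rw [Spec.map_comp, Spec.map_comp, Category.assoc, Category.assoc, Scheme.Hom.SpecMap_residueFieldMap_fromSpecResidueField,
        Scheme.residueFieldCongr_fromSpecResidueField, ← Category.assoc,
        Scheme.descResidueField_stalkClosedPointTo_fromSpecResidueField]
      exact hσ
    have h2 := Spec.map_injective ((cancel_mono _).1 h1)
    letI := (f.residueFieldMap x).hom.toAlgebra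
    letI : Algebra (X.residueField x) L := ι.hom.toAlgebra
    letI : Algebra (Y.residueField (f x)) L := (f.residueFieldMap x ≫ ι).hom.toAlgebra
    haveI : IsScalarTower (Y.residueField (f x)) (X.residueField x) L := .of_algebraMap_eq fun _ => rfl
    haveI : Algebra.IsSeparable (Y.residueField (f x)) L :=
      Algebra.IsSeparable.of_equiv_equiv (A₁ := Y.residueField (f x₀)) (B₁ := L)
        (Y.residueFieldCongr hfx).symm.commRingCatIsoToRingEquiv (RingEquiv.refl L) (RingHom.ext fun r => by
          show (f.residueFieldMap x ≫ ι).hom ((Y.residueFieldCongr hfx).inv r) = _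
          rw [h2]
          show algebraMap _ L ((Y.residueFieldCongr hfx).hom ((Y.residueFieldCongr hfx).inv r)) = _
          rw [Iso.inv_hom_id_apply]
          rfl)
    exact Algebra.isSeparable_tower_bot_of_isSeparable (Y.residueField (f x)) (X.residueField x) L

end Groth.Agent.SmoothSliceLib
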