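import Groth.Agent.SmoothSliceLib.Core
import Mathlib.RingTheory.Jacobson.Ring
import Mathlib.Algebra.MvPolynomial.Funext
import Mathlib.RingTheory.Unramified.Field
import Mathlib.RingTheory.Unramified.Finite

/-!
Smooth algebras over fields have separable points.
-/

set_option autoImplicit false
universe u
open TensorProduct KaehlerDifferential Module

namespace Groth.Agent.SmoothSliceLib

/-- The differentials span in every residue field. -/
theorem span_range_differentials {A T : Type u} [CommRing A] [CommRing T] [Algebra A T] (q : Ideal T) [q.IsPrime] :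
    Submodule.span q.ResidueField (Set.range fun r => (1 : q.ResidueField) ⊗ₜ[T] D A T r) = ⊤ := by
  let K := q.ResidueField
  rw [eq_top_iff]
  rintro z -
  induction z using TensorProduct.induction_on with
  | zero => exact zero_mem _
  | tmul a w =>
    rw [show a ⊗ₜ[T] w = a • ((1 : K) ⊗ₜ[T] w) by rw [TensorProduct.smul_tmul', smul_eq_mul, mul_one]]
    refine Submodule.smul_mem _ _ ?_
    have hw : w ∈ Submodule.span T (Set.range (D A T)) := KaehlerDifferential.span_range_derivation A T ▸ trivial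
    induction hw using Submodule.span_induction with
    | mem x hx => obtain ⟨r, rfl⟩ := hx; exact Submodule.subset_span ⟨r, rfl⟩
    | zero => rw [TensorProduct.tmul_zero]; exact zero_mem _
    | add x y _ _ hx hy => rw [TensorProduct.tmul_add]; exact add_mem hx hy
    | smul c x _ hx =>
      rw [TensorProduct.tmul_smul, ← algebraMap_smul K c]
      exact Submodule.smul_mem _ _ hx
  | add x y hx hy => exact add_mem hx hy

/-- Étale coordinates at any prime. -/
theorem exists_coords_at {A T : Type u} [CommRing A] [CommRing T] [Algebra A T] [Algebra.IsStandardSmooth A T]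
    (q : Ideal T) [q.IsPrime] :
    ∃ (d : ℕ) (f : Fin d → T) (Dt : T), Dt ∉ q ∧
      (MvPolynomial.aeval (R := A) fun i => algebraMap T (Localization.Away Dt) (f i)).toRingHom.Etale := by
  classical
  haveI : Nontrivial T := ⟨0, 1, fun h => (‹q.IsPrime›.ne_top) ((Ideal.eq_top_iff_one q).2 (h ▸ q.zero_mem))⟩
  let K := q.ResidueField
  have hspan : Submodule.span K (Set.range fun r => (1 : K) ⊗ₜ[T] D A T r) = ⊤ := span_range_differentials q
  obtain ⟨t, hts, hsp, hli⟩ := exists_linearIndependent K (Set.range fun r => (1 : K) ⊗ₜ[T] D A T r)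
  rw [hspan] at hsp
  let b₀ : Basis t K (K ⊗[T] Ω[T⁄A]) := Basis.mk hli (by rw [Subtype.range_coe, hsp])
  let b := Module.finBasis T Ω[T⁄A]
  let σ := b₀.indexEquiv (b.baseChange K)
  choose f hf using fun i => hts (σ.symm i).2
  have hlf : LinearIndependent K fun i => (1 : K) ⊗ₜ[T] D A T (f i) := by
    rw [show (fun i => (1 : K) ⊗ₜ[T] D A T (f i)) = b₀ ∘ σ.symm from funext fun i => by
      rw [Function.comp_apply, Basis.mk_apply]; exact hf i]
    exact b₀.linearIndependent.comp _ σ.symm.injective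
  obtain ⟨Dt, hDt, het⟩ := exists_etale_coords b K f hlf
  exact ⟨_, f, Dt, fun h => hDt (Ideal.algebraMap_residueField_eq_zero.2 h), het⟩

/-- A nonzero polynomial is nonzero at a separable point. -/
theorem exists_sep_point_poly (k : Type u) [Field k] {d : ℕ} {g : MvPolynomial (Fin d) k} (hg : g ≠ 0) :
    ∃ m : Ideal (MvPolynomial (Fin d) k), m.IsMaximal ∧ g ∉ m ∧
      Module.Finite k (MvPolynomial (Fin d) k ⧸ m) ∧ Algebra.IsSeparable k (MvPolynomial (Fin d) k ⧸ m) := by
  rcases finite_or_infinite k with h | h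
  · obtain ⟨m, hm, hgm⟩ : ∃ m : Ideal (MvPolynomial (Fin d) k), m.IsMaximal ∧ g ∉ m := by
      by_contra hc
      have h0 : g ∈ Ideal.jacobson (⊥ : Ideal (MvPolynomial (Fin d) k)) := Ideal.mem_sInf.2 fun {m} hm => by
        by_contra hgm
        exact hc ⟨m, hm.2, hgm⟩
      rw [IsJacobsonRing.out inferInstance (Ideal.isPrime_bot (α := MvPolynomial (Fin d) k)).isRadical] at h0
      exact hg h0
    letI := Ideal.Quotient.field m
    haveI : Algebra.FiniteType k (MvPolynomial (Fin d) k ⧸ m) :=
      .of_surjective (Ideal.Quotient.mkₐ k m) Ideal.Quotient.mk_surjective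
    haveI := finite_of_finite_type_of_isJacobsonRing k (MvPolynomial (Fin d) k ⧸ m)
    exact ⟨m, hm, hgm, inferInstance, inferInstance⟩
  · obtain ⟨a, ha⟩ : ∃ a, MvPolynomial.eval a g ≠ 0 := by
      by_contra hc
      exact hg (MvPolynomial.funext fun a => by rw [map_zero]; exact not_not.1 fun h => hc ⟨a, h⟩)
    let χ : MvPolynomial (Fin d) k →ₐ[k] k := MvPolynomial.aeval a
    have hχ : Function.Surjective χ := fun c => ⟨MvPolynomial.C c, χ.commutes c⟩
    let e : (MvPolynomial (Fin d) k ⧸ RingHom.ker χ.toRingHom) ≃ₐ[k] k := Ideal.quotientKerAlgEquivOfSurjective hχ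
    refine ⟨RingHom.ker χ.toRingHom, RingHom.ker_isMaximal_of_surjective χ.toRingHom hχ, fun h => ha h,
      Module.Finite.equiv e.symm.toLinearEquiv, ?_⟩
    exact AlgEquiv.Algebra.isSeparable e.symm

/-- A smooth algebra over a field has separable points in every nonempty open. -/
theorem exists_sep_point (k : Type u) [Field k] {T : Type u} [CommRing T] [Algebra k T] [Algebra.IsStandardSmooth k T]
    (q : Ideal T) [q.IsPrime] (h : T) (hh : h ∉ q) :
    ∃ (L : Type u) (_ : Field L) (_ : Algebra k L) (ψ : T →ₐ[k] L),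
      Module.Finite k L ∧ Algebra.IsSeparable k L ∧ ψ h ≠ 0 := by
  classical
  obtain ⟨d, f, Dt, hDt, het⟩ := exists_coords_at (A := k) q
  let U := Localization.Away Dt
  let φ : MvPolynomial (Fin d) k →ₐ[k] U := MvPolynomial.aeval fun i => algebraMap T U (f i)
  letI algU : Algebra (MvPolynomial (Fin d) k) U := φ.toRingHom.toAlgebra
  haveI : IsScalarTower k (MvPolynomial (Fin d) k) U := IsScalarTower.of_algHom φ
  haveI : Algebra.Etale (MvPolynomial (Fin d) k) U := het
  obtain ⟨qU, hqU⟩ := (PrimeSpectrum.localization_away_comap_range U Dt).ge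
    (show (⟨q, inferInstance⟩ : PrimeSpectrum T) ∈ (PrimeSpectrum.basicOpen Dt : Set (PrimeSpectrum T)) from hDt)
  have hopen : IsOpenMap (PrimeSpectrum.comap (algebraMap (MvPolynomial (Fin d) k) U)) :=
    PrimeSpectrum.isOpenMap_comap_of_hasGoingDown_of_finitePresentation
  obtain ⟨_, ⟨_, ⟨g, rfl⟩, rfl⟩, hgq, hg⟩ := PrimeSpectrum.isBasis_basic_opens.exists_subset_of_mem_open
    (Set.mem_image_of_mem _ (show qU ∈ (PrimeSpectrum.basicOpen (algebraMap T U h) : Set (PrimeSpectrum U)) from
      fun hm => hh ((congrArg PrimeSpectrum.asIdeal hqU).le hm)))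
    (hopen _ (PrimeSpectrum.basicOpen (algebraMap T U h)).isOpen)
  have hg0 : g ≠ 0 := fun h0 => hgq (h0 ▸ Submodule.zero_mem _)
  obtain ⟨m, hm, hgm, hfin, hsep⟩ := exists_sep_point_poly k hg0
  obtain ⟨Q, hQh, hQm⟩ := hg (show (⟨m, hm.isPrime⟩ : PrimeSpectrum (MvPolynomial (Fin d) k)) ∈
    (PrimeSpectrum.basicOpen g : Set (PrimeSpectrum (MvPolynomial (Fin d) k))) from hgm)
  haveI : Q.asIdeal.LiesOver m := ⟨(congrArg PrimeSpectrum.asIdeal hQm).symm⟩
  letI := Ideal.Quotient.field m
  haveI : Algebra.FormallyUnramified U (U ⧸ Q.asIdeal) :=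
    Algebra.FormallyUnramified.of_surjective (Algebra.ofId U _) Ideal.Quotient.mk_surjective
  haveI : Algebra.FormallyUnramified (MvPolynomial (Fin d) k) (U ⧸ Q.asIdeal) := Algebra.FormallyUnramified.comp _ U _
  haveI : Algebra.FormallyUnramified (MvPolynomial (Fin d) k ⧸ m) (U ⧸ Q.asIdeal) :=
    Algebra.FormallyUnramified.of_restrictScalars (MvPolynomial (Fin d) k) (MvPolynomial (Fin d) k ⧸ m) _
  haveI : Algebra.FiniteType (MvPolynomial (Fin d) k) (U ⧸ Q.asIdeal) :=
    .of_surjective (Ideal.Quotient.mkₐ _ Q.asIdeal) Ideal.Quotient.mk_surjective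
  haveI : Algebra.FiniteType (MvPolynomial (Fin d) k ⧸ m) (U ⧸ Q.asIdeal) :=
    Algebra.FiniteType.of_restrictScalars_finiteType (MvPolynomial (Fin d) k) _ _
  haveI : Module.Finite (MvPolynomial (Fin d) k ⧸ m) (U ⧸ Q.asIdeal) := Algebra.FormallyUnramified.finite_of_free _ _
  haveI : Q.asIdeal.IsMaximal := Ideal.Quotient.maximal_of_isField _
    (isField_of_isIntegral_of_isField' (Field.toIsField (MvPolynomial (Fin d) k ⧸ m)))
  letI := Ideal.Quotient.field Q.asIdeal
  haveI : Algebra.IsSeparable (MvPolynomial (Fin d) k ⧸ m) (U ⧸ Q.asIdeal) := Algebra.FormallyUnramified.isSeparable _ _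
  refine ⟨U ⧸ Q.asIdeal, inferInstance, inferInstance, (Ideal.Quotient.mkₐ k Q.asIdeal).comp (IsScalarTower.toAlgHom k T U),
    Module.Finite.trans (MvPolynomial (Fin d) k ⧸ m) _, Algebra.IsSeparable.trans k (MvPolynomial (Fin d) k ⧸ m) _, ?_⟩
  exact fun h0 => hQh (Ideal.Quotient.eq_zero_iff_mem.1 h0)

end Groth.Agent.SmoothSliceLib
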