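import Groth.Agent.SmoothSliceLib.Core
import Groth.Agent.DimFormulaLib.Chart
import Groth.Agent.EtLocalLib.Nbhd

/-!
Étale slices of smooth morphisms through points with separable residue field.
-/

set_option autoImplicit false
universe u
open CategoryTheory AlgebraicGeometry

namespace Groth.Agent.SmoothSliceLib

open Groth.Agent.DimFormulaLib

variable {X Y : Scheme.{u}} {f : X ⟶ Y} {x : X} (c : Chart f x)

/-- Separability of the residue extension, read in a chart. -/
theorem formallyUnramified_residue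
    (hsep : @Algebra.IsSeparable (Y.residueField (f x)) (X.residueField x) _ _ (f.residueFieldMap x).hom.toAlgebra) :
    Algebra.FormallyUnramified c.A c.q.asIdeal.ResidueField := by
  obtain ⟨A, B, i, j, w, q, rfl⟩ := c
  let φ := CommRingCat.ofHom (algebraMap A B)
  let z : ↥(Spec (.of B)) := q
  let p' : PrimeSpectrum A := Spec.map φ z
  letI := (f.residueFieldMap (j q)).hom.toAlgebra
  letI : Algebra p'.asIdeal.ResidueField q.asIdeal.ResidueField :=
    (((Scheme.Spec.residueFieldIso (.of B) z).hom.hom.comp ((Spec.map φ).residueFieldMap z).hom).comp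
      (Scheme.Spec.residueFieldIso (.of A) (Spec.map φ z)).inv.hom).toAlgebra
  haveI : IsScalarTower A p'.asIdeal.ResidueField q.asIdeal.ResidueField :=
    .of_algebraMap_eq fun a => (Chart.Spec_residueFieldMap_apply φ z a).symm
  have hy : f (j z) = i (Spec.map φ z) := by
    rw [← Scheme.Hom.comp_apply, w, Scheme.Hom.comp_apply]
  let eY := ((Y.residueFieldCongr hy) ≪≫ asIso (i.residueFieldMap (Spec.map φ z)) ≪≫
    Scheme.Spec.residueFieldIso (.of A) (Spec.map φ z)).commRingCatIsoToRingEquiv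
  let eX := (asIso (j.residueFieldMap z) ≪≫ Scheme.Spec.residueFieldIso (.of B) z).commRingCatIsoToRingEquiv
  haveI : Algebra.IsSeparable p'.asIdeal.ResidueField q.asIdeal.ResidueField := by
    refine Algebra.IsSeparable.of_equiv_equiv eY eX (RingHom.ext fun r => ?_)
    have hm : f.residueFieldMap (j z) ≫ j.residueFieldMap z =
        (Y.residueFieldCongr hy).hom ≫ i.residueFieldMap (Spec.map φ z) ≫ (Spec.map φ).residueFieldMap z := by
      rw [← Scheme.residueFieldMap_comp, ← Scheme.residueFieldMap_comp,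
        Scheme.Hom.residueFieldMap_congr w]
      rfl
    have hr := congrArg (fun g => (Scheme.Spec.residueFieldIso (.of B) z).hom (g r)) hm
    refine (Eq.trans ?_ hr.symm)
    show (Scheme.Spec.residueFieldIso (.of B) z).hom ((Spec.map φ).residueFieldMap z
      ((Scheme.Spec.residueFieldIso (.of A) (Spec.map φ z)).inv
        ((Scheme.Spec.residueFieldIso (.of A) (Spec.map φ z)).hom
          (i.residueFieldMap (Spec.map φ z) ((Y.residueFieldCongr hy).hom r))))) = _
    rw [Iso.hom_inv_id_apply]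
    rfl
  haveI : Algebra.FormallyUnramified p'.asIdeal.ResidueField q.asIdeal.ResidueField :=
    Algebra.FormallyUnramified.of_isSeparable _ _
  haveI : Algebra.FormallyUnramified A (A ⧸ p'.asIdeal) :=
    Algebra.FormallyUnramified.of_surjective (Algebra.ofId A _) Ideal.Quotient.mk_surjective
  haveI : Algebra.FormallyUnramified (A ⧸ p'.asIdeal) p'.asIdeal.ResidueField :=
    Algebra.FormallyUnramified.of_isLocalization (nonZeroDivisors (A ⧸ p'.asIdeal))
  haveI : Algebra.FormallyUnramified A p'.asIdeal.ResidueField := Algebra.FormallyUnramified.comp A (A ⧸ p'.asIdeal) _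
  exact Algebra.FormallyUnramified.comp A p'.asIdeal.ResidueField q.asIdeal.ResidueField

/-- A smooth morphism has a standard smooth chart. -/
theorem exists_std_chart (f : X ⟶ Y) [Smooth f] (x : X) :
    ∃ c : Chart f x, Algebra.IsStandardSmooth c.A c.B := by
  obtain ⟨c⟩ := exists_chart f x
  have h0 : Smooth (Spec.map (CommRingCat.ofHom (algebraMap c.A c.B)) ≫ c.i) := by rw [← c.w]; infer_instance
  have h1 : Smooth (Spec.map (CommRingCat.ofHom (algebraMap c.A c.B))) :=
    MorphismProperty.of_isPullback (IsPullback.of_horiz_isIso_mono (fst := 𝟙 _) (g := c.i) ⟨Category.id_comp _⟩).flip.flip h0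
  haveI : Algebra.Smooth c.A c.B := RingHom.smooth_algebraMap.1 (HasRingHomProperty.Spec_iff.1 h1)
  obtain ⟨g, hg, hstd⟩ := Algebra.IsSmoothAt.exists_notMem_isStandardSmooth c.A c.q.asIdeal
  let T := Localization.Away g
  haveI : (c.q.asIdeal.map (algebraMap c.B T)).IsPrime := IsLocalization.isPrime_of_isPrime_disjoint (Submonoid.powers g) _ _ inferInstance
    (Set.disjoint_left.2 fun _ hz hzP => by obtain ⟨k, rfl⟩ := hz; exact hg (c.q.isPrime.mem_of_pow_mem k hzP))
  let q' : PrimeSpectrum T := ⟨c.q.asIdeal.map (algebraMap c.B T), inferInstance⟩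
  haveI : IsOpenImmersion (Spec.map (CommRingCat.ofHom (algebraMap c.B T))) := IsOpenImmersion.of_isLocalization g
  refine ⟨⟨c.A, T, c.i, Spec.map (CommRingCat.ofHom (algebraMap c.B T)) ≫ c.j, ?_, q', ?_⟩, hstd⟩
  · rw [Category.assoc, c.w, ← Category.assoc, ← Spec.map_comp, ← CommRingCat.ofHom_comp, ← IsScalarTower.algebraMap_eq]
  · refine Eq.trans ?_ c.hq
    show c.j (PrimeSpectrum.comap (algebraMap c.B T) q') = c.j c.q
    congr 1
    exact PrimeSpectrum.ext (IsLocalization.under_map_of_isPrime_disjoint (Submonoid.powers g) T inferInstance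
      (Set.disjoint_left.2 fun _ hz hzP => by obtain ⟨k, rfl⟩ := hz; exact hg (c.q.isPrime.mem_of_pow_mem k hzP)))

/-- A smooth morphism has an étale slice through a point with separable residue field. -/
theorem exists_etale_slice_scheme (f : X ⟶ Y) [Smooth f] (x : X)
    (hsep : @Algebra.IsSeparable (Y.residueField (f x)) (X.residueField x) _ _ (f.residueFieldMap x).hom.toAlgebra) :
    ∃ (Z : Scheme.{u}) (i : Z ⟶ X) (z : Z), IsImmersion i ∧ Etale (i ≫ f) ∧ i z = x ∧
      ∀ z' : Z, f (i z') = f x → z' = z := by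
  obtain ⟨c, hc⟩ := exists_std_chart f x
  haveI := formallyUnramified_residue c hsep
  obtain ⟨Dt, I, hDt, hI, het⟩ := exists_etale_slice (A := c.A) c.q.asIdeal
  let U := Localization.Away Dt
  let j₁ : Spec (.of U) ⟶ Spec (.of c.B) := Spec.map (CommRingCat.ofHom (algebraMap c.B U))
  let j₂ : Spec (.of (U ⧸ I)) ⟶ Spec (.of U) := Spec.map (CommRingCat.ofHom (Ideal.Quotient.mk I))
  haveI : IsOpenImmersion j₁ := IsOpenImmersion.of_isLocalization Dt
  haveI : IsClosedImmersion j₂ := IsClosedImmersion.spec_of_surjective _ Ideal.Quotient.mk_surjective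
  let i₀ := j₂ ≫ j₁ ≫ c.j
  have hif : i₀ ≫ f = Spec.map (CommRingCat.ofHom (algebraMap c.A (U ⧸ I))) ≫ c.i := by
    simp only [i₀, j₁, j₂, Category.assoc, c.w, ← Spec.map_comp_assoc, ← CommRingCat.ofHom_comp]
  haveI : Etale (Spec.map (CommRingCat.ofHom (algebraMap c.A (U ⧸ I)))) :=
    HasRingHomProperty.Spec_iff.2 (RingHom.etale_algebraMap.2 het)
  haveI : Etale (i₀ ≫ f) := by rw [hif]; infer_instance
  -- the point
  obtain ⟨qU, hqU⟩ := (PrimeSpectrum.localization_away_comap_range U Dt).ge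
    (show c.q ∈ (PrimeSpectrum.basicOpen Dt : Set (PrimeSpectrum c.B)) from hDt)
  have hIq : I ≤ qU.asIdeal := hI.trans (Ideal.map_le_iff_le_comap.2 (congrArg PrimeSpectrum.asIdeal hqU).ge)
  haveI : (qU.asIdeal.map (Ideal.Quotient.mk I)).IsPrime :=
    Ideal.map_isPrime_of_surjective Ideal.Quotient.mk_surjective (by rw [Ideal.mk_ker]; exact hIq)
  let z₀ : PrimeSpectrum (U ⧸ I) := ⟨qU.asIdeal.map (Ideal.Quotient.mk I), inferInstance⟩
  have hz₀ : i₀ z₀ = x := by
    refine Eq.trans ?_ c.hq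
    show c.j (j₁ (j₂ z₀)) = c.j c.q
    rw [show j₂ z₀ = qU from PrimeSpectrum.ext (by
      show (qU.asIdeal.map (Ideal.Quotient.mk I)).comap (Ideal.Quotient.mk I) = _
      rw [Ideal.comap_map_of_surjective _ Ideal.Quotient.mk_surjective, ← RingHom.ker_eq_comap_bot, Ideal.mk_ker]
      exact sup_eq_left.2 hIq), show j₁ qU = c.q from hqU]
  haveI : LocallyQuasiFinite (i₀ ≫ f) := EtLocalLib.lqf_of_unramified _
  obtain ⟨W, hW, hWf⟩ := isDiscrete_iff_forall_exists_isOpen.1 ((i₀ ≫ f).isDiscrete_preimage_singleton (f x)) z₀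
    (by rw [Set.mem_preimage, Scheme.Hom.comp_apply, hz₀]; rfl)
  let W' : (Spec (.of (U ⧸ I))).Opens := ⟨W, hW⟩
  have hzW : z₀ ∈ W := (hWf.ge rfl).1
  haveI : Etale ((W'.ι ≫ i₀) ≫ f) := by rw [Category.assoc]; infer_instance
  refine ⟨W', W'.ι ≫ i₀, ⟨z₀, hzW⟩, inferInstance, inferInstance, ?_, fun z' hz' => ?_⟩
  · rw [Scheme.Hom.comp_apply]
    exact hz₀
  · refine Subtype.ext (hWf.le ⟨z'.2, ?_⟩)
    show (i₀ ≫ f) (W'.ι z') ∈ ({f x} : Set Y)
    rw [Scheme.Hom.comp_apply, ← Scheme.Hom.comp_apply W'.ι, hz']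
    rfl

end Groth.Agent.SmoothSliceLib
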