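import Groth.Agent.SmoothSliceLib.Scheme
import Groth.Agent.SmoothSliceLib.Point
import Groth.Agent.CMFlatLib.Fibre
import Groth.Agent.CMFlatLib.Chart

/-!
A function vanishing at a non-generic point of a smooth fibre with nonzero differential.
-/

set_option autoImplicit false
universe u
open TensorProduct KaehlerDifferential IsLocalRing CategoryTheory AlgebraicGeometry

namespace Groth.Agent.SmoothSliceLib

/-- If all elements of the prime have vanishing differentials and the residue extension is formally smooth,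
the maximal ideal is contained in the square plus the base. -/
theorem maximal_le_sq_sup {A T : Type u} [CommRing A] [CommRing T] [Algebra A T]
    (p : Ideal A) [p.IsPrime] (q : Ideal T) [q.IsPrime] [q.LiesOver p]
    [Algebra p.ResidueField q.ResidueField] [IsScalarTower A p.ResidueField q.ResidueField]
    [Algebra.FormallySmooth p.ResidueField q.ResidueField]
    (h0 : ∀ r ∈ q, (1 : q.ResidueField) ⊗ₜ[T] D A T r = 0) :
    maximalIdeal (Localization.AtPrime q) ≤
      maximalIdeal (Localization.AtPrime q) ^ 2 ⊔ p.map (algebraMap A (Localization.AtPrime q)) := by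
  classical
  let R := Localization.AtPrime q
  let m := maximalIdeal R
  let I : Ideal R := m ^ 2 ⊔ p.map (algebraMap A R)
  have hIm : I ≤ m := sup_le (Ideal.pow_le_self two_ne_zero) (by
    rw [Ideal.map_le_iff_le_comap]
    intro a ha
    rw [Ideal.mem_comap, IsScalarTower.algebraMap_apply A T R]
    exact (IsLocalization.AtPrime.to_map_mem_maximal_iff R q _).2 ((q.mem_of_liesOver p a).1 ha))
  let E := R ⧸ I
  -- the residue field of the base acts
  letI := Localization.AtPrime.algebraOfLiesOver p q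
  have hker : ∀ a ∈ maximalIdeal (Localization.AtPrime p), Ideal.Quotient.mk I (algebraMap (Localization.AtPrime p) R a) = 0 := by
    intro a ha
    rw [← Localization.AtPrime.map_eq_maximalIdeal] at ha
    refine Ideal.Quotient.eq_zero_iff_mem.2 (Ideal.mem_sup_right ?_)
    have h := Ideal.mem_map_of_mem (algebraMap (Localization.AtPrime p) R) ha
    rwa [Ideal.map_map, ← IsScalarTower.algebraMap_eq] at h
  letI : Algebra p.ResidueField E := (Ideal.Quotient.lift (maximalIdeal (Localization.AtPrime p))
    ((Ideal.Quotient.mk I).comp (algebraMap (Localization.AtPrime p) R)) hker).toAlgebra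
  haveI : IsScalarTower A p.ResidueField E := .of_algebraMap_eq fun a => by
    show Ideal.Quotient.mk I (algebraMap A R a) =
      Ideal.Quotient.lift _ ((Ideal.Quotient.mk I).comp (algebraMap (Localization.AtPrime p) R)) hker
        (Ideal.Quotient.mk _ (algebraMap A (Localization.AtPrime p) a))
    rw [Ideal.Quotient.lift_mk, RingHom.comp_apply, ← IsScalarTower.algebraMap_apply]
  let π₀ : E →+* q.ResidueField := Ideal.Quotient.factor hIm
  have hπ₀ : π₀.comp (algebraMap p.ResidueField E) = algebraMap p.ResidueField q.ResidueField :=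
    Ideal.ResidueField.ringHom_ext (RingHom.ext fun a => by
      show π₀ (algebraMap p.ResidueField E (algebraMap A p.ResidueField a)) =
        algebraMap p.ResidueField q.ResidueField (algebraMap A p.ResidueField a)
      rw [← IsScalarTower.algebraMap_apply, ← IsScalarTower.algebraMap_apply]
      rfl)
  let π : E →ₐ[p.ResidueField] q.ResidueField := { π₀ with commutes' := fun a => RingHom.congr_fun hπ₀ a }
  have hπs : Function.Surjective π := Ideal.Quotient.factor_surjective hIm
  have hπk : RingHom.ker (π : E →+* q.ResidueField) = m.map (Ideal.Quotient.mk I) := by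
    refine le_antisymm (fun e he => ?_) (Ideal.map_le_iff_le_comap.2 fun r hr => ?_)
    · obtain ⟨r, rfl⟩ := Ideal.Quotient.mk_surjective e
      exact Ideal.mem_map_of_mem _ (Ideal.Quotient.eq_zero_iff_mem.1 (show Ideal.Quotient.mk m r = 0 from he))
    · exact (Ideal.Quotient.eq_zero_iff_mem.2 hr : Ideal.Quotient.mk m r = 0)
  have hnil : RingHom.ker (π : E →+* q.ResidueField) ^ 2 = ⊥ := by
    rw [hπk, ← Ideal.map_pow, Ideal.map_eq_bot_iff_le_ker, Ideal.mk_ker]
    exact le_sup_left
  let s : q.ResidueField →ₐ[p.ResidueField] E :=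
    Algebra.FormallySmooth.liftOfSurjective (AlgHom.id _ _) π hπs ⟨2, hnil⟩
  have hs : ∀ z, π (s z) = z := fun z => Algebra.FormallySmooth.liftOfSurjective_apply _ π hπs ⟨2, hnil⟩ z
  -- the kernel is a vector space over the residue field
  let τ : T →ₐ[A] E := IsScalarTower.toAlgHom A T E
  let σ : T →ₐ[A] E := (s.restrictScalars A).comp (IsScalarTower.toAlgHom A T q.ResidueField)
  let N : Ideal E := RingHom.ker (π : E →+* q.ResidueField)
  have hN : ∀ t, τ t - σ t ∈ N := fun t => by
    show π (τ t - σ t) = 0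
    rw [map_sub, sub_eq_zero]
    exact (hs _).symm
  letI modN : Module q.ResidueField N := Module.compHom N s.toRingHom
  haveI : IsScalarTower T q.ResidueField N := ⟨fun t c n => Subtype.ext (by
    show s (t • c) * (n : E) = t • (s c * (n : E))
    rw [Algebra.smul_def, map_mul, Algebra.smul_def (A := E) t]
    have h := hN t
    have h2 : (τ t - σ t) * (s c * (n : E)) = 0 := by
      have := Ideal.mul_mem_mul h (N.mul_mem_left (s c) n.2)
      rw [show N * N = N ^ 2 by rw [pow_succ, pow_one], hnil] at this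
      exact this
    rw [sub_mul, sub_eq_zero] at h2
    rw [mul_assoc]
    exact h2.symm)⟩
  let δ : Derivation A T N := Derivation.mk'
    { toFun := fun t => ⟨τ t - σ t, hN t⟩
      map_add' := fun a b => Subtype.ext (show τ (a + b) - σ (a + b) = (τ a - σ a) + (τ b - σ b) by rw [map_add, map_add]; ring)
      map_smul' := fun a b => Subtype.ext (show τ (a • b) - σ (a • b) = a • (τ b - σ b) by rw [map_smul, map_smul, smul_sub]) }
    fun a b => Subtype.ext (by
      show τ (a * b) - σ (a * b) = a • (τ b - σ b) + b • (τ a - σ a)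
      rw [Algebra.smul_def, Algebra.smul_def (A := E) b, show algebraMap T E a = τ a from rfl, show algebraMap T E b = τ b from rfl]
      have h2 : (τ a - σ a) * (τ b - σ b) = 0 := by
        have := Ideal.mul_mem_mul (hN a) (hN b)
        rw [show N * N = N ^ 2 by rw [pow_succ, pow_one], hnil] at this
        exact this
      rw [map_mul, map_mul]
      linear_combination -h2)
  intro r hr
  show r ∈ I
  obtain ⟨⟨t, u⟩, htu⟩ := IsLocalization.surj q.primeCompl r
  have htq : t ∈ q := by
    refine (IsLocalization.AtPrime.to_map_mem_maximal_iff R q t).1 ?_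
    rw [← htu]
    exact Ideal.mul_mem_right _ _ hr
  have hδ : δ t = 0 := by
    have h := congrArg ((δ.liftKaehlerDifferential).liftBaseChange q.ResidueField) (h0 t htq)
    rwa [LinearMap.liftBaseChange_tmul, one_smul, map_zero, Derivation.liftKaehlerDifferential_comp_D] at h
  have hσ : σ t = 0 := by
    show s (algebraMap T q.ResidueField t) = 0
    rw [Ideal.algebraMap_residueField_eq_zero.2 htq, map_zero]
  have h1 : algebraMap T R t ∈ I := by
    have h := congrArg (fun n : N => (n : E)) hδ
    change τ t - σ t = 0 at h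
    rw [hσ, sub_zero] at h
    exact Ideal.Quotient.eq_zero_iff_mem.1 h
  have h3 := htu ▸ h1
  exact (Ideal.mul_unit_mem_iff_mem I (IsLocalization.map_units R u)).1 h3

/-- An element of the prime with nonzero differential. -/
theorem exists_mem_differential_ne_zero {A T : Type u} [CommRing A] [CommRing T] [Algebra A T] [Algebra.FiniteType A T]
    (p : Ideal A) [p.IsPrime] (q : Ideal T) [q.IsPrime] [q.LiesOver p]
    [Algebra p.ResidueField q.ResidueField] [IsScalarTower A p.ResidueField q.ResidueField]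
    [Algebra.FormallySmooth p.ResidueField q.ResidueField]
    (Q : PrimeSpectrum (p.Fiber T))
    (hQ : Q.asIdeal.comap (Algebra.TensorProduct.includeRight : T →ₐ[A] p.Fiber T).toRingHom = q)
    (hne : ¬ maximalIdeal (Localization.AtPrime q) ≤ p.map (algebraMap A (Localization.AtPrime q))) :
    ∃ h ∈ q, (1 : q.ResidueField) ⊗ₜ[T] D A T h ≠ 0 := by
  by_contra hc
  push Not at hc
  have hle := maximal_le_sq_sup p q hc
  obtain ⟨e⟩ := CMFlatLib.exists_quotLocal_equiv p q Q.asIdeal hQ
  let R := Localization.AtPrime q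
  let J : Ideal R := p.map (algebraMap A R)
  haveI : IsNoetherianRing (p.Fiber T) := Algebra.FiniteType.isNoetherianRing p.ResidueField _
  haveI : IsNoetherianRing (Localization.AtPrime Q.asIdeal) := IsLocalization.isNoetherianRing Q.asIdeal.primeCompl _ inferInstance
  haveI : IsNoetherianRing (R ⧸ J) := isNoetherianRing_of_ringEquiv _ e.symm
  have hmap : (maximalIdeal R).map (Ideal.Quotient.mk J) ≤ (maximalIdeal R).map (Ideal.Quotient.mk J) • (maximalIdeal R).map (Ideal.Quotient.mk J) := by
    refine (Ideal.map_mono hle).trans (le_of_eq ?_)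
    rw [Ideal.map_sup, Ideal.map_pow, show J.map (Ideal.Quotient.mk J) = ⊥ from Ideal.map_quotient_self J, sup_bot_eq]
    rw [smul_eq_mul, pow_succ, pow_one]
  have hjac : (maximalIdeal R).map (Ideal.Quotient.mk J) ≤ Ideal.jacobson ⊥ := fun z hz => by
    obtain ⟨r, hr, rfl⟩ := (Ideal.mem_map_iff_of_surjective _ Ideal.Quotient.mk_surjective).1 hz
    refine Ideal.mem_jacobson_bot.2 fun y => ?_
    obtain ⟨y, rfl⟩ := Ideal.Quotient.mk_surjective y
    rw [← map_mul, ← map_one (Ideal.Quotient.mk J), ← map_add]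
    exact (((IsLocalRing.isUnit_or_isUnit_of_isUnit_add (a := r * y + 1) (b := -(r * y)) (by simp)).resolve_right
      fun h => (mem_maximalIdeal _).1 (Ideal.mul_mem_right y _ hr) (by simpa using h))).map _
  have h0 := Submodule.eq_bot_of_le_smul_of_le_jacobson_bot _ _ (IsNoetherian.noetherian _) hmap hjac
  refine hne fun r hr => Ideal.Quotient.eq_zero_iff_mem.1 ?_
  exact (Submodule.mem_bot _).1 (h0.le (Ideal.mem_map_of_mem _ hr))

/-- The kernel of a variable is cut out by a smooth quotient. -/
theorem smooth_quot_X {A : Type u} [CommRing A] {d : ℕ} (i : Fin d) :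
    Algebra.Smooth A (MvPolynomial (Fin d) A ⧸ Ideal.span {(MvPolynomial.X i : MvPolynomial (Fin d) A)}) := by
  classical
  let P := MvPolynomial (Fin d) A
  let J : Ideal P := Ideal.span {(MvPolynomial.X i : P)}
  let ι : {j : Fin d // j ≠ i} → Fin d := Subtype.val
  have hι : Function.Injective ι := Subtype.val_injective
  let g : MvPolynomial {j : Fin d // j ≠ i} A →ₐ[A] P ⧸ J := (Ideal.Quotient.mkₐ A J).comp (MvPolynomial.rename ι)
  let h : P ⧸ J →ₐ[A] MvPolynomial {j : Fin d // j ≠ i} A := Ideal.Quotient.liftₐ J (MvPolynomial.killCompl hι) (fun x hx => by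
    obtain ⟨c, rfl⟩ := Ideal.mem_span_singleton'.1 hx
    rw [map_mul, MvPolynomial.killCompl, MvPolynomial.aeval_X, dif_neg (by rintro ⟨⟨j, hj⟩, h⟩; exact hj h), mul_zero])
  have h1 : h.comp g = AlgHom.id A _ := by
    refine AlgHom.ext fun x => ?_
    exact MvPolynomial.killCompl_rename_app hι x
  have h2 : g.comp h = AlgHom.id A _ := by
    refine Ideal.Quotient.algHom_ext A (MvPolynomial.algHom_ext fun j => ?_)
    show Ideal.Quotient.mk J (MvPolynomial.rename ι (MvPolynomial.killCompl hι (MvPolynomial.X j))) = Ideal.Quotient.mk J (MvPolynomial.X j)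
    by_cases hj : j = i
    · subst hj
      rw [show (Ideal.Quotient.mk J (MvPolynomial.X j : P)) = 0 from Ideal.Quotient.eq_zero_iff_mem.2 (Ideal.mem_span_singleton_self _)]
      rw [MvPolynomial.killCompl, MvPolynomial.aeval_X, dif_neg (by rintro ⟨⟨j', hj'⟩, h⟩; exact hj' h), map_zero, map_zero]
    · rw [show (MvPolynomial.X j : P) = MvPolynomial.rename ι (MvPolynomial.X ⟨j, hj⟩) by simp [ι, P],
        MvPolynomial.killCompl_rename_app]
  haveI : Algebra.Smooth A (MvPolynomial {j : Fin d // j ≠ i} A) := { }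
  exact Algebra.Smooth.of_equiv (AlgEquiv.ofAlgHom g h h2 h1)

/-- Smoothness passes to the fibre of an étale algebra. -/
theorem smooth_quot {A C B : Type u} [CommRing A] [CommRing C] [CommRing B] [Algebra A C] [Algebra C B] [Algebra A B]
    (hc : (algebraMap C B).comp (algebraMap A C) = algebraMap A B) (I : Ideal C)
    [Algebra.Etale C B] [Algebra.Smooth A (C ⧸ I)] : Algebra.Smooth A (B ⧸ I.map (algebraMap C B)) := by
  let E := Algebra.TensorProduct.quotIdealMapEquivQuotTensor B I
  haveI : Algebra.Etale (C ⧸ I) (B ⧸ I.map (algebraMap C B)) := Algebra.Etale.of_equiv E.symm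
  have hcomp : algebraMap A (B ⧸ I.map (algebraMap C B)) =
      (algebraMap (C ⧸ I) (B ⧸ I.map (algebraMap C B))).comp (algebraMap A (C ⧸ I)) := RingHom.ext fun r =>
    congrArg (Ideal.Quotient.mk (I.map (algebraMap C B))) (RingHom.congr_fun hc r).symm
  rw [← RingHom.smooth_algebraMap, hcomp]
  exact (RingHom.smooth_algebraMap.2 ‹Algebra.Smooth A (C ⧸ I)›).comp (RingHom.smooth_algebraMap.2 inferInstance)

/-- A smooth Cartier divisor through a prime, at ring level. -/
theorem exists_smooth_divisor {A T : Type u} [CommRing A] [CommRing T] [Algebra A T] [Algebra.IsStandardSmooth A T]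
    (q : Ideal T) [q.IsPrime] (h : T) (hh : (1 : q.ResidueField) ⊗ₜ[T] D A T h ≠ 0) :
    ∃ Dt : T, Dt ∉ q ∧ algebraMap T (Localization.Away Dt) h ∈ nonZeroDivisors (Localization.Away Dt) ∧
      Algebra.Smooth A (Localization.Away Dt ⧸ Ideal.span {algebraMap T (Localization.Away Dt) h}) := by
  classical
  haveI : Nontrivial T := ⟨0, 1, fun h => (‹q.IsPrime›.ne_top) ((Ideal.eq_top_iff_one q).2 (h ▸ q.zero_mem))⟩
  let K := q.ResidueField
  let v : T → K ⊗[T] Ω[T⁄A] := fun r => (1 : K) ⊗ₜ[T] D A T r
  have hspan : Submodule.span K (Set.range v) = ⊤ := span_range_differentials q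
  obtain ⟨t, hts, hvt, hst, hli⟩ := exists_linearIndepOn_id_extension
    (show LinearIndepOn K id ({v h} : Set (K ⊗[T] Ω[T⁄A])) from LinearIndepOn.singleton hh)
    (Set.singleton_subset_iff.2 ⟨h, rfl⟩ : ({v h} : Set _) ⊆ Set.range v)
  have hsp : Submodule.span K t = ⊤ := top_le_iff.1 (hspan ▸ Submodule.span_le.2 hst)
  let b₀ : Module.Basis t K (K ⊗[T] Ω[T⁄A]) := Module.Basis.mk hli (by simp only [id_eq]; rw [Subtype.range_coe, hsp])
  let b := Module.finBasis T Ω[T⁄A]
  let σ := b₀.indexEquiv (b.baseChange K)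
  let v₀ : t := ⟨v h, hvt rfl⟩
  let i₀ := σ v₀
  choose f' hf' using fun i => hts (σ.symm i).2
  let f : Fin (Module.finrank T Ω[T⁄A]) → T := fun i => if i = i₀ then h else f' i
  have hlf : LinearIndependent K fun i => v (f i) := by
    rw [show (fun i => v (f i)) = b₀ ∘ σ.symm from funext fun i => by
      rw [Function.comp_apply, Module.Basis.mk_apply]
      by_cases hi : i = i₀
      · simp [f, hi, i₀, v₀]
      · simp only [f, if_neg hi]; exact hf' i]
    exact b₀.linearIndependent.comp _ σ.symm.injective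
  obtain ⟨Dt, hDt, het⟩ := exists_etale_coords b K f hlf
  refine ⟨Dt, fun hm => hDt (Ideal.algebraMap_residueField_eq_zero.2 hm), ?_⟩
  let U := Localization.Away Dt
  let P := MvPolynomial (Fin (Module.finrank T Ω[T⁄A])) A
  let φ : P →ₐ[A] U := MvPolynomial.aeval fun i => algebraMap T U (f i)
  letI : Algebra P U := φ.toRingHom.toAlgebra
  haveI : Algebra.Etale P U := het
  have hX : algebraMap P U (MvPolynomial.X i₀) = algebraMap T U h := by
    show φ (MvPolynomial.X i₀) = _
    refine (MvPolynomial.aeval_X _ _).trans ?_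
    simp [f]
  refine ⟨?_, ?_⟩
  · have hP : IsSMulRegular P (MvPolynomial.X i₀ : P) := (MvPolynomial.isRegular_X (R := A)).left.isSMulRegular
    have hU := (RingTheory.Sequence.IsWeaklyRegular.of_flat (S := U) ((RingTheory.Sequence.isWeaklyRegular_singleton_iff P _).2 hP))
    rw [← hX]
    refine mem_nonZeroDivisors_iff_right.2 fun z hz => ?_
    have h1 : IsSMulRegular U (algebraMap P U (MvPolynomial.X i₀)) := (RingTheory.Sequence.isWeaklyRegular_singleton_iff U _).1 (by simpa using hU)
    refine h1 ?_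
    show algebraMap P U (MvPolynomial.X i₀) * z = algebraMap P U (MvPolynomial.X i₀) * 0
    rw [mul_zero, mul_comm, hz]
  · let J : Ideal P := Ideal.span {(MvPolynomial.X i₀ : P)}
    have hJ : J.map (algebraMap P U) = Ideal.span {algebraMap T U h} := by
      rw [Ideal.map_span, Set.image_singleton, hX]
    rw [← hJ]
    haveI := smooth_quot_X (A := A) i₀
    exact smooth_quot (A := A) (C := MvPolynomial (Fin (Module.finrank T Ω[T⁄A])) A) (B := U)
      (RingHom.ext fun r => φ.commutes r) J

variable {X Y : Scheme.{u}} {f : X ⟶ Y} {x : X}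

/-- The maximal ideal is not extended from the base. -/
def MaxNotExt {R S : Type u} [CommRing R] [CommRing S] (g : R →+* S) : Prop :=
  ¬ Ideal.span (nonunits S) ≤ (Ideal.span (nonunits R)).map g

theorem respectsIso_maxNotExt : RingHom.RespectsIso @MaxNotExt := by
  refine ⟨fun {R S T} _ _ _ g e h hle => h ?_, fun {R S T} _ _ _ g e h hle => h ?_⟩
  · have h1 := Ideal.map_mono (f := e.symm.toRingHom) hle
    rw [CMFlatLib.map_span_nonunits, Ideal.map_map, ← RingHom.comp_assoc] at h1
    simpa using h1
  · rwa [← Ideal.map_map, CMFlatLib.map_span_nonunits] at hle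

theorem chart_maxNotExt (c : DimFormulaLib.Chart f x)
    (hgen : IsLocalRing.maximalIdeal ↑((f.fiber (f x)).presheaf.stalk (f.asFiber x)) ≠ ⊥) :
    ¬ maximalIdeal (Localization.AtPrime c.q.asIdeal) ≤ c.p.asIdeal.map (algebraMap c.A (Localization.AtPrime c.q.asIdeal)) := by
  have key : ∀ x' : X, x' = x → (MaxNotExt (f.stalkMap x').hom ↔ MaxNotExt (f.stalkMap x).hom) := by
    rintro x' rfl; rfl
  have h0 : MaxNotExt (f.stalkMap (f.fiberι (f x) (f.asFiber x))).hom := by
    intro hle
    refine hgen (le_bot_iff.1 fun z hz => ?_)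
    obtain ⟨w, rfl⟩ := FlatLocus.fiberι_stalkMap_surjective f (f x) (f.asFiber x) z
    rw [CMFlatLib.span_nonunits, CMFlatLib.span_nonunits, ← FlatLocus.ker_fiberι_stalkMap] at hle
    exact hle ((mem_maximalIdeal _).2 fun hu => (mem_maximalIdeal _).1 hz (hu.map _))
  have h1 := (CMFlatLib.chart_stalkMap_iff respectsIso_maxNotExt c).1 ((key _ (f.fiberι_asFiber x)).1 h0)
  intro hle
  refine h1 ?_
  rw [CMFlatLib.span_nonunits, CMFlatLib.span_nonunits, ← Localization.AtPrime.map_eq_maximalIdeal (I := c.p.asIdeal), Ideal.map_map]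
  refine hle.trans (le_of_eq ?_)
  congr 1
  ext a
  exact ((Localization.localRingHom_to_map c.p.asIdeal c.q.asIdeal (algebraMap c.A c.B) rfl a).trans (IsScalarTower.algebraMap_apply c.A c.B _ a).symm).symm


/-- Formal smoothness of the residue extension, read in a chart. -/
theorem exists_residue_algebra (c : DimFormulaLib.Chart f x)
    (hsep : letI := (f.residueFieldMap x).hom.toAlgebra
      Algebra.FormallySmooth (Y.residueField (f x)) (X.residueField x)) :
    ∃ (_ : Algebra c.p.asIdeal.ResidueField c.q.asIdeal.ResidueField),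
      IsScalarTower c.A c.p.asIdeal.ResidueField c.q.asIdeal.ResidueField ∧
      Algebra.FormallySmooth c.p.asIdeal.ResidueField c.q.asIdeal.ResidueField := by
  obtain ⟨A, B, i, j, w, q, rfl⟩ := c
  let φ := CommRingCat.ofHom (algebraMap A B)
  let z : ↥(Spec (.of B)) := q
  let p' : PrimeSpectrum A := Spec.map φ z
  letI alg : Algebra p'.asIdeal.ResidueField q.asIdeal.ResidueField :=
    (((Scheme.Spec.residueFieldIso (.of B) z).hom.hom.comp ((Spec.map φ).residueFieldMap z).hom).comp
      (Scheme.Spec.residueFieldIso (.of A) (Spec.map φ z)).inv.hom).toAlgebra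
  haveI : IsScalarTower A p'.asIdeal.ResidueField q.asIdeal.ResidueField :=
    .of_algebraMap_eq fun a => (DimFormulaLib.Chart.Spec_residueFieldMap_apply φ z a).symm
  refine ⟨alg, ‹_›, ?_⟩
  show Algebra.FormallySmooth p'.asIdeal.ResidueField q.asIdeal.ResidueField
  rw [← RingHom.formallySmooth_algebraMap]
  have hy : f (j z) = i (Spec.map φ z) := by
    rw [← Scheme.Hom.comp_apply, w, Scheme.Hom.comp_apply]
  let eY := ((Y.residueFieldCongr hy) ≪≫ asIso (i.residueFieldMap (Spec.map φ z)) ≪≫
    Scheme.Spec.residueFieldIso (.of A) (Spec.map φ z)).commRingCatIsoToRingEquiv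
  let eX := (asIso (j.residueFieldMap z) ≪≫ Scheme.Spec.residueFieldIso (.of B) z).commRingCatIsoToRingEquiv
  letI := (f.residueFieldMap (j q)).hom.toAlgebra
  have h0 := RingHom.formallySmooth_algebraMap.2 hsep
  have h1 := RingHom.FormallySmooth.respectsIso.2 _ eY.symm (RingHom.FormallySmooth.respectsIso.1 _ eX h0)
  convert! h1 using 1
  refine RingHom.ext fun r' => ?_
  obtain ⟨r, rfl⟩ := eY.surjective r'
  show algebraMap p'.asIdeal.ResidueField q.asIdeal.ResidueField (eY r) = eX (f.residueFieldMap (j z) (eY.symm (eY r)))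
  rw [RingEquiv.symm_apply_apply]
  have hm : f.residueFieldMap (j z) ≫ j.residueFieldMap z =
      (Y.residueFieldCongr hy).hom ≫ i.residueFieldMap (Spec.map φ z) ≫ (Spec.map φ).residueFieldMap z := by
    rw [← Scheme.residueFieldMap_comp, ← Scheme.residueFieldMap_comp,
      Scheme.Hom.residueFieldMap_congr w]
    rfl
  have hr := congrArg (fun g => (Scheme.Spec.residueFieldIso (.of B) z).hom (g r)) hm
  refine (Eq.trans ?_ hr.symm)
  show (Scheme.Spec.residueFieldIso (.of B) z).hom ((Spec.map φ).residueFieldMap z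
    ((Scheme.Spec.residueFieldIso (.of A) (Spec.map φ z)).inv
      ((Scheme.Spec.residueFieldIso (.of A) (Spec.map φ z)).hom
        (i.residueFieldMap (Spec.map φ z) ((Y.residueFieldCongr hy).hom r))))) = _
  rw [Iso.hom_inv_id_apply]
  rfl

/-- A smooth effective Cartier divisor through a point with separable residue field. -/
theorem exists_smooth_divisor_scheme (f : X ⟶ Y) (x : X) (W : X.Opens) (hxW : x ∈ W) [Smooth (W.ι ≫ f)]
    (hsep : letI := (f.residueFieldMap x).hom.toAlgebra
      Algebra.FormallySmooth (Y.residueField (f x)) (X.residueField x))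
    (hgen : IsLocalRing.maximalIdeal ↑((f.fiber (f x)).presheaf.stalk (f.asFiber x)) ≠ ⊥) :
    ∃ (U : X.Opens) (hU : IsAffineOpen U) (hx : x ∈ U) (h' : Γ(X, U)), h' ∈ nonZeroDivisors Γ(X, U) ∧
      X.presheaf.germ U x hx h' ∈ IsLocalRing.maximalIdeal ↑(X.presheaf.stalk x) ∧
      Smooth (Spec.map (CommRingCat.ofHom (Ideal.Quotient.mk (Ideal.span {h'}))) ≫ hU.fromSpec ≫ f) := by
  obtain ⟨c₁, hstd⟩ := exists_std_chart (W.ι ≫ f) ⟨x, hxW⟩
  let c : DimFormulaLib.Chart f x :=
    ⟨c₁.A, c₁.B, c₁.i, c₁.j ≫ W.ι, by rw [Category.assoc]; exact c₁.w, c₁.q,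
      by rw [Scheme.Hom.comp_apply, c₁.hq]; rfl⟩
  haveI : Algebra.IsStandardSmooth c.A c.B := hstd
  obtain ⟨_, _, _⟩ := exists_residue_algebra c hsep
  obtain ⟨h, hq, hh⟩ := exists_mem_differential_ne_zero c.p.asIdeal c.q.asIdeal c.Q c.comap_Q (chart_maxNotExt c hgen)
  obtain ⟨Dt, hDt, hnzd, hsm⟩ := exists_smooth_divisor (A := c.A) c.q.asIdeal h hh
  let R := Localization.Away Dt
  let u : R := algebraMap c.B R h
  let j₁ : Spec (.of R) ⟶ Spec (.of c.B) := Spec.map (CommRingCat.ofHom (algebraMap c.B R))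
  haveI : IsOpenImmersion j₁ := IsOpenImmersion.of_isLocalization Dt
  let jU := j₁ ≫ c.j
  let U := jU.opensRange
  have hU : IsAffineOpen U := isAffineOpen_opensRange jU
  obtain ⟨qR, hqR⟩ := (PrimeSpectrum.localization_away_comap_range R Dt).ge
    (show c.q ∈ (PrimeSpectrum.basicOpen Dt : Set (PrimeSpectrum c.B)) from hDt)
  have hxj : jU qR = x := by
    show c.j (j₁ qR) = x
    rw [show j₁ qR = c.q from hqR, c.hq]
  have hx : x ∈ U := ⟨qR, hxj⟩
  let θ : Spec Γ(X, U) ≅ Spec (.of R) := IsOpenImmersion.isoOfRangeEq hU.fromSpec jU (by rw [hU.range_fromSpec]; rfl)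
  have hθ : θ.hom ≫ jU = hU.fromSpec := IsOpenImmersion.isoOfRangeEq_hom_fac _ _ _
  let e : CommRingCat.of R ⟶ Γ(X, U) := Spec.preimage θ.hom
  let e' : Γ(X, U) ⟶ CommRingCat.of R := Spec.preimage θ.inv
  have hee' : e ≫ e' = 𝟙 _ := Spec.map_injective (by rw [Spec.map_comp, Spec.map_preimage, Spec.map_preimage, Spec.map_id, θ.inv_hom_id])
  have he'e : e' ≫ e = 𝟙 _ := Spec.map_injective (by rw [Spec.map_comp, Spec.map_preimage, Spec.map_preimage, Spec.map_id, θ.hom_inv_id])
  let eR : R ≃+* Γ(X, U) := (Iso.mk e e' hee' he'e).commRingCatIsoToRingEquiv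
  refine ⟨U, hU, hx, eR u, ?_, ?_, ?_⟩
  · refine mem_nonZeroDivisors_iff_right.2 fun z hz => eR.symm.injective ?_
    rw [map_zero]
    refine mem_nonZeroDivisors_iff_right.1 hnzd _ ?_
    have h1 := congrArg eR.symm hz
    rwa [map_mul, map_zero, RingEquiv.symm_apply_apply] at h1
  · rw [IsLocalRing.mem_maximalIdeal, mem_nonunits_iff, ← Scheme.mem_basicOpen X (eR u) x hx]
    intro hb
    let z : Spec Γ(X, U) := θ.inv qR
    have hz : hU.fromSpec z = x := by
      show hU.fromSpec (θ.inv qR) = x
      rw [← hθ, ← Scheme.Hom.comp_apply, Iso.inv_hom_id_assoc, hxj]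
    have h2 : z ∈ hU.fromSpec ⁻¹ᵁ X.basicOpen (eR u) := by show hU.fromSpec z ∈ X.basicOpen (eR u); rw [hz]; exact hb
    rw [hU.fromSpec_preimage_basicOpen] at h2
    refine h2 ?_
    have h4 : u ∈ qR.asIdeal := (congrArg PrimeSpectrum.asIdeal hqR).ge hq
    show eR u ∈ (θ.inv qR).asIdeal
    rw [show θ.inv = Spec.map e' from (Spec.map_preimage _).symm]
    show e' (e u) ∈ qR.asIdeal
    rw [← CommRingCat.comp_apply, hee']
    exact h4
  · have hk : Ideal.span {eR u} = (Ideal.span {u}).map eR.toRingHom := by rw [Ideal.map_span, Set.image_singleton]; rfl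
    let qe : (R ⧸ Ideal.span {u}) ≃+* (Γ(X, U) ⧸ Ideal.span {eR u}) := Ideal.quotientEquiv _ _ eR hk
    have hfac : Spec.map (CommRingCat.ofHom (Ideal.Quotient.mk (Ideal.span {eR u}))) ≫ hU.fromSpec =
        Spec.map (CommRingCat.ofHom qe.toRingHom) ≫ Spec.map (CommRingCat.ofHom (Ideal.Quotient.mk (Ideal.span {u}))) ≫ jU := by
      rw [← hθ, show θ.hom = Spec.map e from (Spec.map_preimage _).symm, ← Spec.map_comp_assoc]
      simp only [jU, j₁, ← Spec.map_comp_assoc]
      rfl
    haveI : IsIso (CommRingCat.ofHom qe.toRingHom) := (RingEquiv.toCommRingCatIso qe).isIso_hom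
    haveI : Smooth (Spec.map (CommRingCat.ofHom (algebraMap c.A (R ⧸ Ideal.span {u})))) :=
      HasRingHomProperty.Spec_iff.2 (RingHom.smooth_algebraMap.2 hsm)
    have h3 : Spec.map (CommRingCat.ofHom (Ideal.Quotient.mk (Ideal.span {u}))) ≫ jU ≫ f =
        Spec.map (CommRingCat.ofHom (algebraMap c.A (R ⧸ Ideal.span {u}))) ≫ c.i := by
      simp only [jU, j₁, Category.assoc, c.w, ← Spec.map_comp_assoc, ← CommRingCat.ofHom_comp]
    rw [← Category.assoc, hfac, Category.assoc, Category.assoc, h3]
    infer_instance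


end Groth.Agent.SmoothSliceLib
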