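import Groth.Agent.SmoothSliceLib.Divisor

/-!
Smooth divisors cut out by functions with nonzero differential at a point.
-/

set_option autoImplicit false
universe u
open CategoryTheory AlgebraicGeometry TensorProduct KaehlerDifferential IsLocalRing

namespace Groth.Agent.SmoothSliceLib

/-- A differential vanishing at a prime vanishes at the closed point of the local ring. -/
theorem differential_eq_zero_of_eq_zero {A T R O : Type u} [CommRing A] [CommRing T] [CommRing R] [CommRing O] [IsLocalRing O]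
    [Algebra A T] [Algebra A R] [Algebra R O] [Algebra T O] [Algebra A O] [IsScalarTower A T O] [IsScalarTower A R O]
    (q : Ideal T) [q.IsPrime] [IsLocalization.AtPrime O q] (b : T)
    (h : (1 : q.ResidueField) ⊗ₜ[T] D A T b = 0) :
    (1 : ResidueField O) ⊗ₜ[O] D R O (algebraMap T O b) = 0 := by
  let f : T →+* ResidueField O := (residue O).comp (algebraMap T O)
  have hf₁ : q ≤ RingHom.ker f := fun t ht => (residue_eq_zero_iff _).2 ((IsLocalization.AtPrime.to_map_mem_maximal_iff O q t).2 ht)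
  have hf₂ : q.primeCompl ≤ (IsUnit.submonoid (ResidueField O)).comap f := fun t ht =>
    (IsLocalization.map_units O (⟨t, ht⟩ : q.primeCompl)).map (residue O)
  let θ := Ideal.ResidueField.lift q f hf₁ hf₂
  let M := ResidueField O ⊗[O] Ω[O⁄R]
  let Dd : Derivation A T M :=
    { toFun := fun t => (1 : ResidueField O) ⊗ₜ[O] D R O (algebraMap T O t)
      map_add' := fun s t => by rw [map_add, map_add, TensorProduct.tmul_add]
      map_smul' := fun a t => by
        rw [RingHom.id_apply, ← algebraMap_smul O a ((1 : ResidueField O) ⊗ₜ[O] D R O (algebraMap T O t))]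
        rw [Algebra.smul_def, map_mul, ← IsScalarTower.algebraMap_apply, IsScalarTower.algebraMap_apply A R O,
          Derivation.leibniz, Derivation.map_algebraMap, smul_zero, add_zero, TensorProduct.tmul_smul]
      map_one_eq_zero' := by
        show (1 : ResidueField O) ⊗ₜ[O] D R O (algebraMap T O 1) = 0
        rw [map_one, Derivation.map_one_eq_zero, TensorProduct.tmul_zero]
      leibniz' := fun s t => by
        simp only [LinearMap.coe_mk, AddHom.coe_mk]
        rw [map_mul, Derivation.leibniz, TensorProduct.tmul_add, TensorProduct.tmul_smul, TensorProduct.tmul_smul,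
          algebraMap_smul, algebraMap_smul] }
  let ℓ : Ω[T⁄A] →ₗ[T] M := Dd.liftKaehlerDifferential
  let ψ : q.ResidueField →+ Ω[T⁄A] →+ M :=
    { toFun := fun k =>
        { toFun := fun w => θ k • ℓ w
          map_zero' := by rw [map_zero, smul_zero]
          map_add' := fun v w => by rw [map_add, smul_add] }
      map_zero' := AddMonoidHom.ext fun w => by show θ 0 • ℓ w = 0; rw [map_zero, zero_smul]
      map_add' := fun k l => AddMonoidHom.ext fun w => by show θ (k + l) • ℓ w = θ k • ℓ w + θ l • ℓ w; rw [map_add, add_smul] }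
  let Ψ := TensorProduct.liftAddHom (R := T) (M := q.ResidueField) (N := Ω[T⁄A]) ψ fun t k w => by
    show θ (t • k) • ℓ w = θ k • ℓ (t • w)
    rw [map_smul ℓ, Algebra.smul_def, map_mul, mul_comm, mul_smul, Ideal.ResidueField.lift_algebraMap]
    show θ k • algebraMap O (ResidueField O) (algebraMap T O t) • ℓ w = θ k • t • ℓ w
    rw [algebraMap_smul, algebraMap_smul]
  have h1 : θ 1 • ℓ (D A T b) = 0 := (congrArg Ψ h).trans (map_zero Ψ)
  rw [map_one, one_smul, Derivation.liftKaehlerDifferential_comp_D] at h1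
  exact h1

set_option maxHeartbeats 800000 in
/-- An element with nonvanishing differential at a point cuts out a smooth divisor nearby. -/
theorem exists_smooth_divisor_germ {X S : Scheme.{u}} (f : X ⟶ S) (x : X) (W : X.Opens) (hxW : x ∈ W) [Smooth (W.ι ≫ f)]
    (h : X.presheaf.stalk x) (hm : h ∈ maximalIdeal (X.presheaf.stalk x))
    (hd : letI := (f.stalkMap x).hom.toAlgebra
      (1 : ResidueField (X.presheaf.stalk x)) ⊗ₜ[X.presheaf.stalk x]
        (KaehlerDifferential.D (S.presheaf.stalk (f x)) (X.presheaf.stalk x) h) ≠ 0) :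
    ∃ (U : X.Opens) (hU : IsAffineOpen U) (hx : x ∈ U) (h' : Γ(X, U)), X.presheaf.germ U x hx h' = h ∧
      h' ∈ nonZeroDivisors Γ(X, U) ∧
      Smooth (Spec.map (CommRingCat.ofHom (Ideal.Quotient.mk (Ideal.span {h'}))) ≫ hU.fromSpec ≫ f) := by
  obtain ⟨_, ⟨W₀ : S.Opens, hW₀, rfl⟩, hfx, -⟩ :=
    S.isBasis_affineOpens.exists_subset_of_mem_open (Set.mem_univ (f x)) isOpen_univ
  obtain ⟨_, ⟨V₀ : X.Opens, hV₀, rfl⟩, hxV₀, hV₀le⟩ :=
    X.isBasis_affineOpens.exists_subset_of_mem_open (a := x) (u := ↑(W ⊓ f ⁻¹ᵁ W₀)) ⟨hxW, hfx⟩ (W ⊓ f ⁻¹ᵁ W₀).2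
  have hV₀W : V₀ ≤ f ⁻¹ᵁ W₀ := fun y hy => (hV₀le hy).2
  have hV₀W' : V₀ ≤ W := fun y hy => (hV₀le hy).1
  letI alg₀ : Algebra Γ(S, W₀) Γ(X, V₀) := (f.appLE W₀ V₀ hV₀W).hom.toAlgebra
  haveI : Algebra.Smooth Γ(S, W₀) Γ(X, V₀) := by
    haveI : Smooth (X.homOfLE hV₀W' ≫ W.ι ≫ f) := inferInstance
    rw [X.homOfLE_ι_assoc] at this
    haveI : Smooth (hV₀.fromSpec ≫ f) := by
      rw [← hV₀.isoSpec_inv_ι, Category.assoc]; infer_instance
    rw [← IsAffineOpen.SpecMap_appLE_fromSpec f hW₀ hV₀ hV₀W] at this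
    have h1 : Smooth (Spec.map (f.appLE W₀ V₀ hV₀W)) :=
      MorphismProperty.of_isPullback (IsPullback.of_horiz_isIso_mono (fst := 𝟙 _) (g := hW₀.fromSpec) ⟨Category.id_comp _⟩).flip.flip this
    exact RingHom.smooth_algebraMap.1 (HasRingHomProperty.Spec_iff.1 h1)
  let O := X.presheaf.stalk x
  let q₀ : Ideal Γ(X, V₀) := (hV₀.primeIdealOf ⟨x, hxV₀⟩).asIdeal
  obtain ⟨g, hg, hstd⟩ := Algebra.IsSmoothAt.exists_notMem_isStandardSmooth Γ(S, W₀) q₀
  let V := X.basicOpen g
  have hVV₀ : V ≤ V₀ := X.basicOpen_le g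
  have hV : IsAffineOpen V := hV₀.basicOpen g
  letI : Algebra Γ(X, V₀) O := TopCat.Presheaf.algebra_section_stalk X.presheaf ⟨x, hxV₀⟩
  haveI := hV₀.isLocalization_stalk ⟨x, hxV₀⟩
  have hxV : x ∈ V := by
    rw [X.mem_basicOpen g x hxV₀]
    exact IsLocalization.map_units O (⟨g, hg⟩ : q₀.primeCompl)
  have hVW : V ≤ f ⁻¹ᵁ W₀ := hVV₀.trans hV₀W
  letI algA : Algebra Γ(S, W₀) Γ(X, V) := (f.appLE W₀ V hVW).hom.toAlgebra
  letI : Algebra Γ(X, V₀) Γ(X, V) := (X.presheaf.map (homOfLE hVV₀).op).hom.toAlgebra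
  haveI : IsLocalization.Away g Γ(X, V) := hV₀.isLocalization_basicOpen g
  haveI : IsScalarTower Γ(S, W₀) Γ(X, V₀) Γ(X, V) := .of_algebraMap_eq fun r => by
    show f.appLE W₀ V hVW r = X.presheaf.map (homOfLE hVV₀).op (f.appLE W₀ V₀ hV₀W r)
    rw [← CommRingCat.comp_apply, Scheme.Hom.appLE_map]
  haveI : Algebra.IsStandardSmooth Γ(S, W₀) Γ(X, V) := by
    let E : Localization.Away g ≃ₐ[Γ(S, W₀)] Γ(X, V) := (IsLocalization.algEquiv (Submonoid.powers g) _ _).restrictScalars _
    rw [← RingHom.isStandardSmooth_algebraMap, ← E.toAlgHom.comp_algebraMap]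
    exact RingHom.isStandardSmooth_respectsIso.left _ E.toRingEquiv (RingHom.isStandardSmooth_algebraMap.2 hstd)
  let T := Γ(X, V)
  letI : Algebra T O := TopCat.Presheaf.algebra_section_stalk X.presheaf ⟨x, hxV⟩
  let q : Ideal T := (hV.primeIdealOf ⟨x, hxV⟩).asIdeal
  haveI : IsLocalization.AtPrime O q := hV.isLocalization_stalk ⟨x, hxV⟩
  letI := (f.stalkMap x).hom.toAlgebra
  letI : Algebra Γ(S, W₀) (S.presheaf.stalk (f x)) := TopCat.Presheaf.algebra_section_stalk S.presheaf ⟨f x, hfx⟩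
  letI : Algebra Γ(S, W₀) O := ((X.presheaf.germ V x hxV).hom.comp (f.appLE W₀ V hVW).hom).toAlgebra
  haveI : IsScalarTower Γ(S, W₀) T O := .of_algebraMap_eq fun _ => rfl
  haveI : IsScalarTower Γ(S, W₀) (S.presheaf.stalk (f x)) O := .of_algebraMap_eq fun r => by
    show X.presheaf.germ V x hxV (f.appLE W₀ V hVW r) = f.stalkMap x (S.presheaf.germ W₀ (f x) hfx r)
    rw [Scheme.Hom.germ_stalkMap_apply, Scheme.Hom.appLE, CommRingCat.comp_apply, X.presheaf.germ_res_apply]
  obtain ⟨⟨b, s⟩, hbs⟩ := IsLocalization.surj q.primeCompl h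
  have hsu : IsUnit (algebraMap T O (s : T)) := IsLocalization.map_units O s
  have hb : (1 : q.ResidueField) ⊗ₜ[T] D Γ(S, W₀) T b ≠ 0 := fun h0 => hd (by
    have h1 := differential_eq_zero_of_eq_zero (R := S.presheaf.stalk (f x)) (O := O) q b h0
    rw [← show h * algebraMap T O (s : T) = algebraMap T O b from hbs, Derivation.leibniz, TensorProduct.tmul_add,
      TensorProduct.tmul_smul, TensorProduct.tmul_smul] at h1
    have h2 : h • (1 : ResidueField O) ⊗ₜ[O] D (S.presheaf.stalk (f x)) O (algebraMap T O (s : T)) = 0 := by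
      rw [← algebraMap_smul (ResidueField O) h, show algebraMap O (ResidueField O) h = 0 from (residue_eq_zero_iff h).2 hm, zero_smul]
    rw [h2, zero_add] at h1
    exact (hsu.smul_eq_zero).1 h1)
  obtain ⟨Dt, hDt, hnzd, hsm⟩ := exists_smooth_divisor (A := Γ(S, W₀)) q b hb
  let w : T := Dt * s
  have hw : w ∉ q := Ideal.IsPrime.mul_notMem inferInstance hDt s.2
  let U := X.basicOpen w
  have hUV : U ≤ V := X.basicOpen_le w
  have hU : IsAffineOpen U := hV.basicOpen w
  have hxU : x ∈ U := by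
    rw [X.mem_basicOpen w x hxV]
    exact IsLocalization.map_units O (⟨w, hw⟩ : q.primeCompl)
  letI : Algebra T Γ(X, U) := (X.presheaf.map (homOfLE hUV).op).hom.toAlgebra
  haveI : IsLocalization.Away w Γ(X, U) := hV.isLocalization_basicOpen w
  have hwu := IsLocalization.Away.algebraMap_isUnit (S := Γ(X, U)) w
  rw [map_mul, IsUnit.mul_iff] at hwu
  let R := Localization.Away Dt
  letI : Algebra R Γ(X, U) := (IsLocalization.Away.lift Dt hwu.1 : R →+* Γ(X, U)).toAlgebra
  haveI : IsScalarTower T R Γ(X, U) := .of_algebraMap_eq fun t => (IsLocalization.Away.lift_eq Dt hwu.1 t).symm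
  haveI : Algebra.Etale T R := Algebra.Etale.of_isLocalizationAway Dt
  haveI : Algebra.Etale T Γ(X, U) := Algebra.Etale.of_isLocalizationAway w
  haveI : Algebra.Etale R Γ(X, U) := Algebra.Etale.of_restrictScalars T R Γ(X, U)
  let h' : Γ(X, U) := algebraMap T Γ(X, U) b * ↑hwu.2.unit⁻¹
  have hspan : Ideal.span {h'} = (Ideal.span {algebraMap T R b}).map (algebraMap R Γ(X, U)) := by
    rw [Ideal.map_span, Set.image_singleton, ← IsScalarTower.algebraMap_apply]
    exact Ideal.span_singleton_mul_right_unit (Units.isUnit _) _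
  refine ⟨U, hU, hxU, h', ?_, ?_, ?_⟩
  · have hg : ∀ t : T, X.presheaf.germ U x hxU (algebraMap T Γ(X, U) t) = algebraMap T O t := fun t =>
      X.presheaf.germ_res_apply (homOfLE hUV) x hxU t
    refine hsu.mul_right_cancel ?_
    rw [show h * algebraMap T O (s : T) = algebraMap T O b from hbs, ← hg, ← hg, ← map_mul, mul_assoc, IsUnit.val_inv_mul, mul_one]
  · refine mul_mem ?_ (Units.isUnit _).mem_nonZeroDivisors
    rw [IsScalarTower.algebraMap_apply T R Γ(X, U)]
    have h1 : IsSMulRegular R (algebraMap T R b) := (isRegular_iff_mem_nonZeroDivisors.2 hnzd).left.isSMulRegular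
    have h2 := ((RingTheory.Sequence.isWeaklyRegular_singleton_iff R _).2 h1).of_flat (S := Γ(X, U))
    simp only [List.map_cons, List.map_nil, RingTheory.Sequence.isWeaklyRegular_singleton_iff] at h2
    exact mem_nonZeroDivisors_iff_right.2 fun z hz => h2 (by simp only [smul_eq_mul, mul_zero]; rw [mul_comm, hz])
  · have hVU : U ≤ f ⁻¹ᵁ W₀ := hUV.trans hVW
    letI : Algebra Γ(S, W₀) Γ(X, U) := (f.appLE W₀ U hVU).hom.toAlgebra
    have hA : ∀ r, algebraMap Γ(S, W₀) Γ(X, U) r = algebraMap T Γ(X, U) (algebraMap Γ(S, W₀) T r) := fun r => by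
      show f.appLE W₀ U hVU r = X.presheaf.map (homOfLE hUV).op (f.appLE W₀ V hVW r)
      rw [← CommRingCat.comp_apply, Scheme.Hom.appLE_map]
    haveI : Algebra.Smooth Γ(S, W₀) (R ⧸ Ideal.span {algebraMap T R b}) := hsm
    haveI : Algebra.Smooth Γ(S, W₀) (Γ(X, U) ⧸ Ideal.span {h'}) := by
      rw [hspan]
      refine smooth_quot (A := Γ(S, W₀)) (C := R) (B := Γ(X, U)) (RingHom.ext fun r => ?_) _
      rw [hA, RingHom.comp_apply, IsScalarTower.algebraMap_apply Γ(S, W₀) T R, ← IsScalarTower.algebraMap_apply T R]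
    haveI : Smooth (Spec.map (CommRingCat.ofHom (algebraMap Γ(S, W₀) (Γ(X, U) ⧸ Ideal.span {h'})))) :=
      HasRingHomProperty.Spec_iff.2 (RingHom.smooth_algebraMap.2 inferInstance)
    rw [← IsAffineOpen.SpecMap_appLE_fromSpec f hW₀ hU hVU, ← Spec.map_comp_assoc]
    exact inferInstanceAs (Smooth (Spec.map (CommRingCat.ofHom (algebraMap Γ(S, W₀) (Γ(X, U) ⧸ Ideal.span {h'}))) ≫ hW₀.fromSpec))

end Groth.Agent.SmoothSliceLib
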