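import Groth.Agent.SmoothCoords.Basic
import Groth.Agent.CMSliceLib.Slice

/-!
Étale coordinates at a prime of a smooth algebra with prescribed elements in the prime, and étale slices.
-/

set_option autoImplicit false
universe u
open TensorProduct KaehlerDifferential Module

namespace Groth.Agent.SmoothSliceLib

variable {A T : Type u} [CommRing A] [CommRing T] [Algebra A T]

/-- Elements whose differentials form a basis in a residue field give étale coordinates near that point. -/
theorem exists_etale_coords [Algebra.Smooth A T] {d : ℕ} (b : Basis (Fin d) T Ω[T⁄A])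
    (K : Type u) [Field K] [Algebra T K] (f : Fin d → T)
    (hf : LinearIndependent K fun i => (1 : K) ⊗ₜ[T] D A T (f i)) :
    ∃ Dt : T, algebraMap T K Dt ≠ 0 ∧
      (MvPolynomial.aeval (R := A) fun i => algebraMap T (Localization.Away Dt) (f i)).toRingHom.Etale := by
  classical
  let bK := b.baseChange K
  let v : Fin d → K ⊗[T] Ω[T⁄A] := fun i => (1 : K) ⊗ₜ[T] D A T (f i)
  have hv : IsUnit (bK.det v) := (Basis.is_basis_iff_det bK).1
    ⟨hf, hf.span_eq_top_of_card_eq_finrank' (by rw [Fintype.card_fin, finrank_eq_card_basis bK, Fintype.card_fin])⟩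
  let Dt : T := b.det fun i => D A T (f i)
  have hDt : algebraMap T K Dt = bK.det v := by
    rw [show Dt = (b.toMatrix fun i => D A T (f i)).det from Basis.det_apply _ _, RingHom.map_det, Basis.det_apply]
    congr 1
    ext i j
    simp [bK, v, Basis.toMatrix_apply, Algebra.smul_def]
  refine ⟨Dt, hDt ▸ hv.ne_zero, ?_⟩
  let U := Localization.Away Dt
  haveI : Algebra.Smooth A U := Algebra.Smooth.comp A T U
  let bU : Basis (Fin d) U Ω[U⁄A] :=
    (b.baseChange U).map (KaehlerDifferential.isBaseChange_of_formallyEtale A T U).equiv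
  have hbU : ∀ (t : T) i, bU.repr (D A U (algebraMap T U t)) i = algebraMap T U (b.repr (D A T t) i) := by
    intro t i
    have h : (KaehlerDifferential.isBaseChange_of_formallyEtale A T U).equiv ((1 : U) ⊗ₜ[T] D A T t) =
        D A U (algebraMap T U t) := by
      rw [IsBaseChange.equiv_tmul, one_smul]
      exact KaehlerDifferential.map_D A A T U t
    rw [Basis.map_repr, LinearEquiv.trans_apply, ← h, LinearEquiv.symm_apply_apply,
      Basis.baseChange_repr_tmul, Algebra.smul_def, mul_one]
  have hunit : IsUnit (bU.det fun i => D A U (algebraMap T U (f i))) := by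
    have : bU.toMatrix (fun i => D A U (algebraMap T U (f i))) =
        (algebraMap T U).mapMatrix (b.toMatrix fun i => D A T (f i)) := by
      ext i j
      simp only [RingHom.mapMatrix_apply, Matrix.map_apply, Basis.toMatrix_apply, hbU]
    rw [Basis.det_apply, this, ← RingHom.map_det, ← Basis.det_apply]
    exact IsLocalization.Away.algebraMap_isUnit Dt
  obtain ⟨hli, hsp⟩ := (Basis.is_basis_iff_det bU).2 hunit
  exact SmoothCoords.etale_of_basis _ (Basis.mk hli hsp.ge) fun i => by
    rw [Basis.mk_apply, MvPolynomial.aeval_X]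

/-- At a prime with formally unramified residue field the differentials of its elements span. -/
theorem span_differentials (q : Ideal T) [q.IsPrime] [Algebra.FormallyUnramified A q.ResidueField] :
    Submodule.span q.ResidueField ((fun r => (1 : q.ResidueField) ⊗ₜ[T] D A T r) '' (q : Set T)) = ⊤ := by
  let L := Localization.AtPrime q
  let K := q.ResidueField
  haveI : Algebra.FormallyEtale T L := Algebra.FormallyEtale.of_isLocalization q.primeCompl
  let e : K ⊗[T] Ω[T⁄A] ≃ₗ[K] K ⊗[L] Ω[L⁄A] :=
    (AlgebraTensorModule.cancelBaseChange T L K K Ω[T⁄A]).symm.trans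
      (AlgebraTensorModule.congr (LinearEquiv.refl K K)
        (KaehlerDifferential.isBaseChange_of_formallyEtale A T L).equiv)
  have he : ∀ r, e ((1 : K) ⊗ₜ[T] D A T r) = (1 : K) ⊗ₜ[L] D A L (algebraMap T L r) := fun r => by
    simp [e, IsBaseChange.equiv_tmul]
  rw [eq_top_iff]
  rintro z -
  have hsurj : Function.Surjective (algebraMap L K) := IsLocalRing.residue_surjective
  obtain ⟨w, hw⟩ := ((KaehlerDifferential.exact_kerCotangentToTensor_mapBaseChange A L K hsurj) (e z)).1
    (Subsingleton.elim _ _)
  obtain ⟨u, rfl⟩ := Ideal.toCotangent_surjective _ w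
  obtain ⟨⟨r, s⟩, hrs⟩ := IsLocalization.surj q.primeCompl (u : L)
  have hu : algebraMap L K (u : L) = 0 := u.2
  have hr : r ∈ q := by
    have h := congrArg (algebraMap L K) hrs
    rwa [map_mul, hu, zero_mul, ← IsScalarTower.algebraMap_apply, eq_comm, Ideal.algebraMap_residueField_eq_zero] at h
  have h1 : (1 : K) ⊗ₜ[L] D A L (algebraMap T L r) = algebraMap T K s • e z := by
    rw [← hw, ← hrs]
    show _ = algebraMap T K s • ((1 : K) ⊗ₜ[L] D A L (u : L))
    rw [Derivation.leibniz, TensorProduct.tmul_add, ← TensorProduct.smul_tmul, Algebra.smul_def (u : L) (1 : K), hu,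
      zero_mul, TensorProduct.zero_tmul, zero_add, ← TensorProduct.smul_tmul, TensorProduct.smul_tmul',
      Algebra.smul_def, smul_eq_mul, ← IsScalarTower.algebraMap_apply]
  have hs : algebraMap T K s ≠ 0 := fun h => s.2 ((Ideal.algebraMap_residueField_eq_zero).1 h)
  rw [← he, ← e.map_smul] at h1
  have h2 : z = (algebraMap T K s)⁻¹ • (1 : K) ⊗ₜ[T] D A T r := by
    rw [e.injective h1, smul_smul, inv_mul_cancel₀ hs, one_smul]
  rw [h2]
  exact Submodule.smul_mem _ _ (Submodule.subset_span ⟨r, hr, rfl⟩)

/-- Étaleness passes to the fibre over a section. -/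
theorem etale_quot {C B : Type u} [CommRing C] [CommRing B] [Algebra C B] [Algebra A B] (c : A →+* C)
    (hc : (algebraMap C B).comp c = algebraMap A B) (I : Ideal C) (hbij : Function.Bijective ((Ideal.Quotient.mk I).comp c))
    [Algebra.Etale C B] : Algebra.Etale A (B ⧸ I.map (algebraMap C B)) := by
  let E := Algebra.TensorProduct.quotIdealMapEquivQuotTensor B I
  have h1 : Algebra.Etale (C ⧸ I) (B ⧸ I.map (algebraMap C B)) :=
    Algebra.Etale.of_equiv E.symm
  have hcomp : algebraMap A (B ⧸ I.map (algebraMap C B)) =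
      (algebraMap (C ⧸ I) (B ⧸ I.map (algebraMap C B))).comp ((Ideal.Quotient.mk I).comp c) := RingHom.ext fun r =>
    congrArg (Ideal.Quotient.mk (I.map (algebraMap C B))) (RingHom.congr_fun hc r).symm
  rw [← RingHom.etale_algebraMap, hcomp]
  exact RingHom.Etale.stableUnderComposition _ _ (RingHom.Etale.of_bijective hbij) (RingHom.etale_algebraMap.2 h1)

/-- An étale slice through a prime with formally unramified residue field. -/
theorem exists_etale_slice [Algebra.IsStandardSmooth A T] (q : Ideal T) [q.IsPrime]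
    [Algebra.FormallyUnramified A q.ResidueField] :
    ∃ (Dt : T) (I : Ideal (Localization.Away Dt)), Dt ∉ q ∧ I ≤ q.map (algebraMap T (Localization.Away Dt)) ∧
      Algebra.Etale A (Localization.Away Dt ⧸ I) := by
  classical
  haveI : Nontrivial T := ⟨0, 1, fun h => (‹q.IsPrime›.ne_top) ((Ideal.eq_top_iff_one q).2 (h ▸ q.zero_mem))⟩
  obtain ⟨t, hts, hsp, hli⟩ := exists_linearIndependent q.ResidueField
    ((fun r => (1 : q.ResidueField) ⊗ₜ[T] D A T r) '' (q : Set T))
  rw [span_differentials q] at hsp
  let b₀ : Basis t q.ResidueField (q.ResidueField ⊗[T] Ω[T⁄A]) := Basis.mk hli (by rw [Subtype.range_coe, hsp])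
  let b := Module.finBasis T Ω[T⁄A]
  let σ := b₀.indexEquiv (b.baseChange q.ResidueField)
  choose f hfq hf using fun i => hts (σ.symm i).2
  have hlf : LinearIndependent q.ResidueField fun i => (1 : q.ResidueField) ⊗ₜ[T] D A T (f i) := by
    rw [show (fun i => (1 : q.ResidueField) ⊗ₜ[T] D A T (f i)) = b₀ ∘ σ.symm from funext fun i => by
      rw [Function.comp_apply, Basis.mk_apply]; exact hf i]
    exact b₀.linearIndependent.comp _ σ.symm.injective
  obtain ⟨Dt, hDt, het⟩ := exists_etale_coords b q.ResidueField f hlf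
  let U := Localization.Away Dt
  let φ : MvPolynomial (Fin _) A →ₐ[A] U := MvPolynomial.aeval fun i => algebraMap T U (f i)
  letI : Algebra (MvPolynomial (Fin (Module.finrank T Ω[T⁄A])) A) U := φ.toRingHom.toAlgebra
  haveI : Algebra.Etale (MvPolynomial (Fin (Module.finrank T Ω[T⁄A])) A) U := het
  let J : Ideal (MvPolynomial (Fin (Module.finrank T Ω[T⁄A])) A) := Ideal.ofList (List.ofFn fun i => MvPolynomial.X i)
  have hbij : Function.Bijective ((Ideal.Quotient.mk J).comp MvPolynomial.C) := CMSliceLib.bijective_mk_C J rfl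
  refine ⟨Dt, J.map φ.toRingHom, fun h => hDt (Ideal.algebraMap_residueField_eq_zero.2 h), ?_, ?_⟩
  · rw [Ideal.map_le_iff_le_comap]
    refine Ideal.span_le.2 fun z hz => ?_
    obtain ⟨i, rfl⟩ := List.mem_ofFn.1 hz
    rw [SetLike.mem_coe, Ideal.mem_comap, AlgHom.toRingHom_eq_coe, RingHom.coe_coe, MvPolynomial.aeval_X]
    exact Ideal.mem_map_of_mem _ (hfq i)
  · have hc : (algebraMap (MvPolynomial (Fin (Module.finrank T Ω[T⁄A])) A) U).comp MvPolynomial.C = algebraMap A U :=
      RingHom.ext fun r => φ.commutes r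
    exact etale_quot MvPolynomial.C hc J hbij

end Groth.Agent.SmoothSliceLib
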